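import Mathlib
import Groth.Agent.Lib.RegLoc.PowerSeries
import Groth.Agent.Lib.FSchSys.Ring

/-!
# The singular scheme of a type II Weierstrass model in residue characteristic two
-/

set_option autoImplicit false
universe u

open MvPowerSeries

namespace GrothLib.Wei2Cot

variable {R : Type u} [CommRing R]

/-- The equation and its two partials, with `a₁ = u₁ ϖ^v`, `a₆ = u₆ ϖ`. -/
noncomputable def sing (a₁ a₆ : R) : Ideal (MvPowerSeries (Fin 2) R) :=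
  Ideal.span {(X 1 : MvPowerSeries (Fin 2) R) ^ 2 + a₁ • (X 0 * X 1) - X 0 ^ 3 - algebraMap R _ a₆,
    2 * X 1 + a₁ • X 0, 3 * X 0 ^ 2 - a₁ • X 1}

/-- The maximal ideal. -/
noncomputable def mIdeal (ϖ : R) : Ideal (MvPowerSeries (Fin 2) R) :=
  Ideal.span {algebraMap R (MvPowerSeries (Fin 2) R) ϖ, X 0, X 1}

/-- In the quotient, the powers of the maximal ideal have two generators. -/
theorem pow_le {Q : Type u} [CommRing Q] (x y p : Q) (M : Ideal Q) (hM : M = Ideal.span {p, x, y})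
    (hp : p ∈ Ideal.span {y ^ 2}) {w : ℕ} (hw : 1 ≤ w) (hx2 : x ^ 2 ∈ Ideal.span {y ^ (w + 2)}) :
    ∀ j : ℕ, M ^ (j + 1) ≤ Ideal.span {y ^ (j + 1), x * y ^ j} := by
  have hM1 : M ≤ Ideal.span {y, x} := by
    rw [hM, Ideal.span_le]
    rintro z (rfl | rfl | rfl)
    · obtain ⟨c, hc⟩ := Ideal.mem_span_singleton'.1 hp
      exact Ideal.mem_span_pair.2 ⟨c * y, 0, by linear_combination hc⟩
    · exact Ideal.subset_span (Set.mem_insert_of_mem _ rfl)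
    · exact Ideal.subset_span (Set.mem_insert _ _)
  intro j
  induction j with
  | zero => simpa using hM1
  | succ j ih =>
    obtain ⟨c, hc⟩ := Ideal.mem_span_singleton'.1 hx2
    rw [pow_succ']
    refine (Ideal.mul_mono hM1 ih).trans ?_
    rw [Ideal.span_mul_span', Ideal.span_le]
    rintro _ ⟨a, (rfl | rfl), b, (rfl | rfl), rfl⟩
    · exact Ideal.mem_span_pair.2 ⟨1, 0, by ring⟩
    · exact Ideal.mem_span_pair.2 ⟨0, 1, by ring⟩
    · exact Ideal.mem_span_pair.2 ⟨0, 1, by ring⟩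
    · refine Ideal.mem_span_pair.2 ⟨c * y ^ w, 0, ?_⟩
      calc c * y ^ w * y ^ (j + 1 + 1) + 0 * (a * y ^ (j + 1)) = (c * y ^ (w + 2)) * y ^ j := by ring
        _ = a * (a * y ^ j) := by rw [hc]; ring

theorem sup_eq (ϖ : R) (v : ℕ) (hv : 1 ≤ v) (u₁ u₆ : Rˣ) (h3 : IsUnit (3 : R)) :
    mIdeal ϖ ^ (2 * v) ⊔ sing (u₁ * ϖ ^ v : R) (u₆ * ϖ) =
      Ideal.span {(X 1 : MvPowerSeries (Fin 2) R) ^ (2 * v), X 0 * X 1 ^ (2 * v - 1)} ⊔
        sing (u₁ * ϖ ^ v : R) (u₆ * ϖ) := by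
  refine le_antisymm (sup_le ?_ le_sup_right) (sup_le (le_sup_of_le_left ?_) le_sup_right)
  swap
  · have hX : ∀ i : Fin 2, (X i : MvPowerSeries (Fin 2) R) ∈ mIdeal ϖ := fun i => by
      refine Ideal.subset_span ?_
      fin_cases i
      · exact Set.mem_insert_of_mem _ (Set.mem_insert _ _)
      · exact Set.mem_insert_of_mem _ (Set.mem_insert_of_mem _ rfl)
    rw [Ideal.span_le]
    rintro z (rfl | rfl)
    · exact Ideal.pow_mem_pow (hX 1) _
    · have := Ideal.mul_mem_mul (hX 0) (Ideal.pow_mem_pow (hX 1) (2 * v - 1))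
      rwa [← pow_succ', show 2 * v - 1 + 1 = 2 * v by omega] at this
  obtain ⟨v', rfl⟩ : ∃ v', v = v' + 1 := ⟨v - 1, by omega⟩
  set I := sing (u₁ * ϖ ^ (v' + 1) : R) (u₆ * ϖ)
  let π := Ideal.Quotient.mk I
  let cst : R →+* MvPowerSeries (Fin 2) R ⧸ I := π.comp (algebraMap R _)
  obtain ⟨e, he⟩ := h3.exists_left_inv
  set x := π (X 0)
  set y := π (X 1)
  have hF : y ^ 2 + cst u₁ * cst ϖ ^ (v' + 1) * (x * y) - x ^ 3 - cst u₆ * cst ϖ = 0 := by
    have h : π ((X 1 : MvPowerSeries (Fin 2) R) ^ 2 + (u₁ * ϖ ^ (v' + 1) : R) • (X 0 * X 1) - X 0 ^ 3 -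
        algebraMap R _ (u₆ * ϖ : R)) = 0 :=
      Ideal.Quotient.eq_zero_iff_mem.2 (Ideal.subset_span (Set.mem_insert _ _))
    simpa [cst, x, y, Algebra.smul_def, map_mul, map_pow] using h
  have hG : cst 3 * x ^ 2 - cst u₁ * cst ϖ ^ (v' + 1) * y = 0 := by
    have h : π (3 * (X 0 : MvPowerSeries (Fin 2) R) ^ 2 - (u₁ * ϖ ^ (v' + 1) : R) • X 1) = 0 :=
      Ideal.Quotient.eq_zero_iff_mem.2
        (Ideal.subset_span (Set.mem_insert_of_mem _ (Set.mem_insert_of_mem _ rfl)))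
    simpa [cst, x, y, Algebra.smul_def, map_mul, map_pow, map_ofNat] using h
  have he' : cst e * cst 3 = 1 := by rw [← map_mul, he, map_one]
  have hx : x ^ 2 = cst e * cst u₁ * cst ϖ ^ (v' + 1) * y := by
    linear_combination cst e * hG - x ^ 2 * he'
  let Bt : MvPowerSeries (Fin 2) R :=
    algebraMap R _ (u₆ : R) - algebraMap R _ ((u₁ * (1 - e) * ϖ ^ v' : R)) * (X 0 * X 1)
  have hBu : IsUnit Bt := by
    rw [MvPowerSeries.isUnit_iff_constantCoeff]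
    simp [Bt, MvPowerSeries.algebraMap_apply, u₆.isUnit]
  obtain ⟨W, hW⟩ := (hBu.map π).exists_left_inv
  have hp : cst ϖ = y ^ 2 * W := by
    have hB : π Bt = cst u₆ - cst u₁ * (1 - cst e) * cst ϖ ^ v' * (x * y) := by
      simp [Bt, cst, x, y, map_mul, map_pow, map_sub]
    rw [hB] at hW
    linear_combination (-cst ϖ) * hW - W * hF - W * x * hx
  have hx2 : x ^ 2 ∈ Ideal.span {y ^ (2 * v' + 1 + 2)} := by
    refine Ideal.mem_span_singleton'.2 ⟨cst e * cst u₁ * W ^ (v' + 1), ?_⟩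
    rw [hx, hp, mul_pow, ← pow_mul]
    ring
  intro z hz
  have h1 : π z ∈ Ideal.span {y ^ (2 * v' + 1 + 1), x * y ^ (2 * v' + 1)} := by
    refine pow_le x y (cst ϖ) ((mIdeal ϖ).map π) ?_ (Ideal.mem_span_singleton'.2 ⟨W, by rw [hp]; ring⟩)
      (w := 2 * v' + 1) (by omega) hx2 (2 * v' + 1) ?_
    · rw [mIdeal, Ideal.map_span, Set.image_insert_eq, Set.image_pair]
      rfl
    · rw [← Ideal.map_pow]
      exact Ideal.mem_map_of_mem π (by rwa [show 2 * v' + 1 + 1 = 2 * (v' + 1) by ring])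
  have h2 : π z ∈ (Ideal.span {(X 1 : MvPowerSeries (Fin 2) R) ^ (2 * (v' + 1)),
      X 0 * X 1 ^ (2 * (v' + 1) - 1)}).map π := by
    rw [Ideal.map_span, Set.image_pair, map_mul, map_pow, map_pow,
      show 2 * (v' + 1) - 1 = 2 * v' + 1 by omega, show 2 * (v' + 1) = 2 * v' + 1 + 1 by ring]
    exact h1
  rw [← Ideal.mem_comap, Ideal.comap_map_of_surjective π Ideal.Quotient.mk_surjective, ← RingHom.ker_eq_comap_bot,
    Ideal.mk_ker] at h2
  exact h2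

/-- A point of the singular scheme killing the power `2v+1` of the maximal ideal. -/
theorem exists_test {T : Type u} [CommRing T] [Algebra R T] (ϖ : R) (v : ℕ) (u₁ u₆ : Rˣ) (x y : T)
    (hx : x ^ 2 = 0) (hy : y ^ 2 = algebraMap R T (u₆ * ϖ)) (hy1 : y ^ (2 * v + 1) = 0) (hyx : x * y ^ (2 * v) = 0)
    (h1x : algebraMap R T (u₁ * ϖ ^ v) * x = 0) (h1y : algebraMap R T (u₁ * ϖ ^ v) * y = 0)
    (h2y : 2 * y = 0) :
    ∃ ψ : MvPowerSeries (Fin 2) R →ₐ[R] T, ψ (X 0) = x ∧ ψ (X 1) = y ∧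
      ∀ z ∈ mIdeal ϖ ^ (2 * v + 1) ⊔ sing (u₁ * ϖ ^ v : R) (u₆ * ϖ), ψ z = 0 := by
  let J : Ideal T := Ideal.span {y, x}
  have hp : algebraMap R T ϖ ∈ J := by
    refine Ideal.mem_span_pair.2 ⟨algebraMap R T ↑u₆⁻¹ * y, 0, ?_⟩
    rw [zero_mul, add_zero, mul_assoc, ← pow_two, hy, ← map_mul, ← mul_assoc, Units.inv_mul, one_mul]
  have hJ : ∀ j : ℕ, J ^ (j + 1) ≤ Ideal.span {y ^ (j + 1), x * y ^ j} := by
    intro j
    induction j with
    | zero => simp [J]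
    | succ j ih =>
      rw [pow_succ']
      refine (Ideal.mul_mono le_rfl ih).trans ?_
      rw [Ideal.span_mul_span', Ideal.span_le]
      rintro _ ⟨a, (rfl | rfl), b, (rfl | rfl), rfl⟩
      · exact Ideal.mem_span_pair.2 ⟨1, 0, by ring⟩
      · exact Ideal.mem_span_pair.2 ⟨0, 1, by ring⟩
      · exact Ideal.mem_span_pair.2 ⟨0, 1, by ring⟩
      · refine Ideal.mem_span_pair.2 ⟨0, 0, ?_⟩
        calc 0 * y ^ (j + 1 + 1) + 0 * (a * y ^ (j + 1)) = a ^ 2 * y ^ j := by rw [hx]; ring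
          _ = a * (a * y ^ j) := by ring
  have hbot : J ^ (2 * v + 1) = ⊥ := by
    refine le_bot_iff.1 ((hJ (2 * v)).trans (Ideal.span_le.2 ?_))
    rintro z (rfl | rfl)
    · exact hy1
    · exact hyx
  haveI : IsAdicComplete J T := GrothLib.FSchSys.isAdicComplete_of_pow_eq_bot hbot
  obtain ⟨ψ, hψ⟩ := GrothLib.RegLoc.PS.exists_algHom (A := R) J ![x, y] (fun i => by
    fin_cases i
    · exact Ideal.subset_span (Set.mem_insert_of_mem _ rfl)
    · exact Ideal.subset_span (Set.mem_insert _ _))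
  have hψ0 : ψ (X 0) = x := hψ 0
  have hψ1 : ψ (X 1) = y := hψ 1
  refine ⟨ψ, hψ0, hψ1, fun z hz => ?_⟩
  refine (sup_le (a := mIdeal ϖ ^ (2 * v + 1)) (c := RingHom.ker ψ) ?_ ?_ hz : z ∈ RingHom.ker ψ)
  · intro w hw
    have hmap : (mIdeal ϖ).map ψ ≤ J := by
      rw [mIdeal, Ideal.map_span, Ideal.span_le]
      rintro _ ⟨t, (rfl | rfl | rfl), rfl⟩
      · rw [AlgHom.commutes]; exact hp
      · rw [hψ0]; exact Ideal.subset_span (Set.mem_insert_of_mem _ rfl)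
      · rw [hψ1]; exact Ideal.subset_span (Set.mem_insert _ _)
    have := Ideal.mem_map_of_mem ψ hw
    rw [Ideal.map_pow] at this
    have h0 := Ideal.pow_right_mono hmap _ this
    rwa [hbot] at h0
  · rw [sing, Ideal.span_le]
    rintro w (rfl | rfl | rfl)
    · rw [SetLike.mem_coe, RingHom.mem_ker, map_sub, map_sub, map_add, map_pow, map_pow, map_smul, map_mul,
        AlgHom.commutes, hψ0, hψ1, hy, Algebra.smul_def]
      linear_combination y * h1x - x * hx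
    · rw [SetLike.mem_coe, RingHom.mem_ker, map_add, map_mul, map_smul, map_ofNat, hψ0, hψ1, h2y,
        Algebra.smul_def, h1x, add_zero]
    · rw [SetLike.mem_coe, RingHom.mem_ker, map_sub, map_mul, map_smul, map_pow, map_ofNat, hψ0, hψ1, hx,
        Algebra.smul_def, h1y, mul_zero, sub_zero]

theorem re_algebraMap {A : Type u} [CommRing A] [Algebra R A] (t : A) (r : R) :
    (algebraMap R (QuadraticAlgebra A t 0) r).re = algebraMap R A r := rfl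

theorem im_algebraMap {A : Type u} [CommRing A] [Algebra R A] (t : A) (r : R) :
    (algebraMap R (QuadraticAlgebra A t 0) r).im = 0 := rfl

theorem omega_sq {A : Type u} [CommRing A] [Algebra R A] (t : A) (r : R) (ht : t = algebraMap R A r) :
    (⟨0, 1⟩ : QuadraticAlgebra A t 0) ^ 2 = algebraMap R (QuadraticAlgebra A t 0) r := by
  rw [pow_two]
  refine QuadraticAlgebra.ext ?_ ?_
  · rw [re_algebraMap]; simp [ht]
  · rw [im_algebraMap]; simp

/-- The test point `x = 0`. -/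
theorem kills_left {A : Type u} [CommRing A] [Algebra R A] (ϖ : R) (v : ℕ) (hv : 1 ≤ v) (u₁ u₆ : Rˣ) {c : R}
    (hc : (2 : R) = c * ϖ ^ v) (hA : algebraMap R A (ϖ ^ (v + 1)) = 0) (a b : R)
    (h : a • (X 1 : MvPowerSeries (Fin 2) R) ^ (2 * v) + b • (X 0 * X 1 ^ (2 * v - 1)) ∈
      mIdeal ϖ ^ (2 * v + 1) ⊔ sing (u₁ * ϖ ^ v : R) (u₆ * ϖ)) :
    algebraMap R A (a * (↑u₆ * ϖ) ^ v) = 0 := by
  obtain ⟨v', rfl⟩ : ∃ v', v = v' + 1 := ⟨v - 1, by omega⟩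
  obtain ⟨t, ht⟩ : ∃ t : A, t = algebraMap R A (↑u₆ * ϖ) := ⟨_, rfl⟩
  let w : QuadraticAlgebra A t 0 := ⟨0, 1⟩
  obtain ⟨K, hKd⟩ : ∃ K : Ideal (QuadraticAlgebra A t 0),
      K = Ideal.span {algebraMap R _ (ϖ ^ (v' + 1)) * w} := ⟨_, rfl⟩
  have hK : ∀ r : R, ϖ ^ (v' + 1) ∣ r → algebraMap R (QuadraticAlgebra A t 0 ⧸ K) r * Ideal.Quotient.mk K w = 0 := by
    rintro r ⟨s, rfl⟩
    show Ideal.Quotient.mk K (algebraMap R _ (ϖ ^ (v' + 1) * s) * w) = 0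
    rw [Ideal.Quotient.eq_zero_iff_mem, hKd, map_mul, mul_right_comm]
    exact Ideal.mul_mem_right _ _ (Ideal.subset_span rfl)
  have hw2 : (Ideal.Quotient.mk K w) ^ 2 = algebraMap R (QuadraticAlgebra A t 0 ⧸ K) (↑u₆ * ϖ : R) := by
    rw [← map_pow, omega_sq t _ ht]; rfl
  obtain ⟨ψ, hψ0, hψ1, hψ⟩ := exists_test ϖ (v' + 1) u₁ u₆ (0 : QuadraticAlgebra A t 0 ⧸ K)
    (Ideal.Quotient.mk K w) (by ring) hw2
    (by rw [pow_succ, pow_mul, hw2, ← map_pow]; exact hK _ ⟨_, by rw [mul_pow, mul_comm]⟩)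
    (zero_mul _) (mul_zero _) (hK _ ⟨_, mul_comm _ _⟩)
    (by rw [show (2 : QuadraticAlgebra A t 0 ⧸ K) = algebraMap R _ 2 from (map_ofNat _ 2).symm, hc]
        exact hK _ ⟨_, mul_comm _ _⟩)
  have h0 := hψ _ h
  rw [map_add, map_smul, map_smul, map_pow, map_mul, map_pow, hψ0, hψ1, zero_mul, smul_zero, add_zero,
    pow_mul, hw2, ← map_pow, Algebra.smul_def, ← map_mul] at h0
  change Ideal.Quotient.mk K (algebraMap R _ (a * (↑u₆ * ϖ) ^ (v' + 1))) = 0 at h0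
  rw [Ideal.Quotient.eq_zero_iff_mem, hKd] at h0
  obtain ⟨q, hq⟩ := Ideal.mem_span_singleton'.1 h0
  have hk : algebraMap R A (ϖ ^ (v' + 1)) * t = 0 := by
    rw [ht, ← map_mul, show ϖ ^ (v' + 1) * (↑u₆ * ϖ) = ↑u₆ * ϖ ^ (v' + 1 + 1) by ring, map_mul, hA, mul_zero]
  revert hq hk
  generalize a * (↑u₆ * ϖ) ^ (v' + 1) = r₁
  generalize ϖ ^ (v' + 1) = r₂
  intro hq hk
  have hre := congrArg QuadraticAlgebra.re hq
  simp [w, re_algebraMap, im_algebraMap] at hre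
  linear_combination q.im * hk - hre

/-- The test point `x = ε`. -/
theorem kills_right {A : Type u} [CommRing A] [Algebra R A] (ϖ : R) (v : ℕ) (hv : 1 ≤ v) (u₁ u₆ : Rˣ) {c : R}
    (hc : (2 : R) = c * ϖ ^ v) (hA0 : algebraMap R A (ϖ ^ v) = 0) (a b : R)
    (h : a • (X 1 : MvPowerSeries (Fin 2) R) ^ (2 * v) + b • (X 0 * X 1 ^ (2 * v - 1)) ∈
      mIdeal ϖ ^ (2 * v + 1) ⊔ sing (u₁ * ϖ ^ v : R) (u₆ * ϖ)) :
    algebraMap R A (b * (↑u₆ * ϖ) ^ (v - 1)) = 0 := by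
  obtain ⟨v', rfl⟩ : ∃ v', v = v' + 1 := ⟨v - 1, by omega⟩
  obtain ⟨t, ht⟩ : ∃ t : A, t = algebraMap R A (↑u₆ * ϖ) := ⟨_, rfl⟩
  let w : QuadraticAlgebra A t 0 := ⟨0, 1⟩
  let y : DualNumber (QuadraticAlgebra A t 0) := TrivSqZeroExt.inl w
  have hA : ∀ r : R, ϖ ^ (v' + 1) ∣ r → algebraMap R (DualNumber (QuadraticAlgebra A t 0)) r = 0 := by
    rintro r ⟨s, rfl⟩
    rw [IsScalarTower.algebraMap_apply R A (DualNumber (QuadraticAlgebra A t 0)), map_mul (algebraMap R A), hA0,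
      zero_mul, map_zero]
  have hy : y ^ 2 = algebraMap R (DualNumber (QuadraticAlgebra A t 0)) (↑u₆ * ϖ : R) := by
    rw [pow_two, ← TrivSqZeroExt.inl_mul, ← pow_two, omega_sq t _ ht]; rfl
  obtain ⟨ψ, hψ0, hψ1, hψ⟩ := exists_test ϖ (v' + 1) u₁ u₆
    (DualNumber.eps : DualNumber (QuadraticAlgebra A t 0)) y
    (by rw [pow_two, DualNumber.eps_mul_eps]) hy
    (by rw [pow_succ, pow_mul, hy, ← map_pow, hA _ ⟨_, by rw [mul_pow, mul_comm]⟩, zero_mul])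
    (by rw [pow_mul, hy, ← map_pow, hA _ ⟨_, by rw [mul_pow, mul_comm]⟩, mul_zero])
    (by rw [hA _ ⟨_, mul_comm _ _⟩, zero_mul]) (by rw [hA _ ⟨_, mul_comm _ _⟩, zero_mul])
    (by rw [show (2 : DualNumber (QuadraticAlgebra A t 0)) = algebraMap R _ 2 from (map_ofNat _ 2).symm,
          hc, hA _ ⟨_, mul_comm _ _⟩, zero_mul])
  have h0 := hψ _ h
  rw [map_add, map_smul, map_smul, map_pow, map_mul, map_pow, hψ0, hψ1,
    show 2 * (v' + 1) - 1 = 2 * v' + 1 by omega, pow_succ y, pow_mul, pow_mul, hy, ← map_pow, ← map_pow,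
    Algebra.smul_def a, hA ((↑u₆ * ϖ) ^ (v' + 1)) ⟨_, by rw [mul_pow, mul_comm]⟩, mul_zero, zero_add,
    Algebra.smul_def b] at h0
  have h1 : algebraMap R (QuadraticAlgebra A t 0) (b * (↑u₆ * ϖ) ^ v') * w = 0 := by
    have := congrArg TrivSqZeroExt.snd h0
    simpa [y, TrivSqZeroExt.algebraMap_eq_inl', mul_assoc] using this
  rw [show v' + 1 - 1 = v' by omega]
  revert h1
  generalize b * (↑u₆ * ϖ) ^ v' = r
  intro h1
  have h2 := congrArg QuadraticAlgebra.im h1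
  simpa [w, re_algebraMap, im_algebraMap] using h2

theorem coeffs_mem [IsDomain R] {ϖ : R} (hϖ : Irreducible ϖ) {v : ℕ} (hv : 1 ≤ v) (u₁ u₆ : Rˣ) {c : R}
    (hc : (2 : R) = c * ϖ ^ v) (a b : R)
    (h : a • (X 1 : MvPowerSeries (Fin 2) R) ^ (2 * v) + b • (X 0 * X 1 ^ (2 * v - 1)) ∈
      mIdeal ϖ ^ (2 * v + 1) ⊔ sing (u₁ * ϖ ^ v : R) (u₆ * ϖ)) :
    ϖ ∣ a ∧ ϖ ∣ b := by
  constructor
  · have hz := kills_left (A := R ⧸ Ideal.span {ϖ ^ (v + 1)}) ϖ v hv u₁ u₆ hc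
      (Ideal.Quotient.eq_zero_iff_mem.2 (Ideal.subset_span rfl)) a b h
    obtain ⟨s, hs⟩ := Ideal.mem_span_singleton'.1 (Ideal.Quotient.eq_zero_iff_mem.1 hz)
    refine (Units.dvd_mul_right (u := u₆ ^ v)).1 ⟨s, ?_⟩
    refine mul_right_cancel₀ (pow_ne_zero v hϖ.ne_zero) ?_
    rw [Units.val_pow_eq_pow_val]
    linear_combination -hs
  · have hz := kills_right (A := R ⧸ Ideal.span {ϖ ^ v}) ϖ v hv u₁ u₆ hc
      (Ideal.Quotient.eq_zero_iff_mem.2 (Ideal.subset_span rfl)) a b h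
    obtain ⟨s, hs⟩ := Ideal.mem_span_singleton'.1 (Ideal.Quotient.eq_zero_iff_mem.1 hz)
    obtain ⟨v', rfl⟩ : ∃ v', v = v' + 1 := ⟨v - 1, by omega⟩
    rw [show v' + 1 - 1 = v' by omega] at hs
    refine (Units.dvd_mul_right (u := u₆ ^ v')).1 ⟨s, ?_⟩
    refine mul_right_cancel₀ (pow_ne_zero v' hϖ.ne_zero) ?_
    rw [Units.val_pow_eq_pow_val]
    linear_combination -hs

end GrothLib.Wei2Cot
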